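import Mathlib.LinearAlgebra.Matrix.Determinant.Basic
import Mathlib.Data.Fin.Tuple.Sort
import Mathlib.Tactic

/-!
The Cauchy–Binet formula, summing over strictly decreasing tuples.
-/

namespace Groth.Agent.Verlinde.CauchyBinet

open Matrix Finset

variable {R : Type*} [CommRing R] {r m : ℕ}

theorem det_mul_eq_sum (M : Matrix (Fin r) (Fin m) R) (L : Matrix (Fin m) (Fin r) R) :
    (M * L).det = ∑ p : Fin r → Fin m, (∏ i, M i (p i)) * (L.submatrix p id).det := by
  rw [← det_transpose (M * L), det_apply']
  simp only [← det_transpose (L.submatrix _ id), det_apply', transpose_apply, mul_apply,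
    prod_univ_sum, mul_sum, Fintype.piFinset_univ, submatrix_apply, id]
  rw [Finset.sum_comm]
  refine sum_congr rfl fun p _ => sum_congr rfl fun π _ => ?_
  rw [prod_mul_distrib]
  ring

/-- Cauchy–Binet. -/
theorem det_mul_eq_sum_strictAnti (M : Matrix (Fin r) (Fin m) R) (L : Matrix (Fin m) (Fin r) R) :
    (M * L).det = ∑ σ ∈ (univ : Finset (Fin r → Fin m)).filter (fun σ => StrictAnti σ),
      (M.submatrix id σ).det * (L.submatrix σ id).det := by
  classical
  rw [det_mul_eq_sum, ← Finset.sum_filter_add_sum_filter_not univ
    (fun p : Fin r → Fin m => Function.Injective p)]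
  have hz : ∑ p ∈ (univ : Finset (Fin r → Fin m)).filter (fun p => ¬ Function.Injective p),
      (∏ i, M i (p i)) * (L.submatrix p id).det = 0 := by
    refine sum_eq_zero fun p hp => ?_
    rw [mem_filter, Function.not_injective_iff] at hp
    obtain ⟨-, i, j, hpij, hij⟩ := hp
    rw [det_zero_of_row_eq hij (by ext x; simp [hpij]), mul_zero]
  rw [hz, add_zero]
  symm
  calc ∑ σ ∈ (univ : Finset (Fin r → Fin m)).filter (fun σ => StrictAnti σ),
        (M.submatrix id σ).det * (L.submatrix σ id).det
      = ∑ σ ∈ (univ : Finset (Fin r → Fin m)).filter (fun σ => StrictAnti σ),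
          ∑ π : Equiv.Perm (Fin r),
            (∏ i, M i (σ (π i))) * (L.submatrix (σ ∘ π) id).det := by
        refine sum_congr rfl fun σ _ => ?_
        rw [← det_transpose (M.submatrix id σ), det_apply', sum_mul]
        refine sum_congr rfl fun π _ => ?_
        have : L.submatrix (σ ∘ π) id = (L.submatrix σ id).submatrix π id := rfl
        rw [this, det_permute]
        simp only [transpose_apply, submatrix_apply, id]
        ring
    _ = _ := by
        rw [← sum_product']
        refine sum_bij (fun x _ => x.1 ∘ x.2) ?_ ?_ ?_ (fun _ _ => rfl)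
        · intro x hx
          simp only [mem_product, mem_filter, mem_univ, true_and, and_true] at hx ⊢
          exact hx.injective.comp x.2.injective
        · rintro ⟨σ, π⟩ hx ⟨σ', π'⟩ hx' h
          simp only [mem_product, mem_filter, mem_univ, true_and, and_true] at hx hx'
          have hr : Set.range σ = Set.range σ' := by
            have := congrArg Set.range h
            simpa [Set.range_comp] using this
          obtain rfl := (hx.range_inj hx').mp hr
          have : π = π' := Equiv.ext fun i => hx.injective (congrFun h i)
          rw [this]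
        · intro p hp
          simp only [mem_filter, mem_univ, true_and] at hp
          set π₀ := Tuple.sort (fun i => OrderDual.toDual (p i))
          have hmono : Antitone (p ∘ π₀) := fun a b hab =>
            Tuple.monotone_sort (fun i => OrderDual.toDual (p i)) hab
          refine ⟨(p ∘ π₀, π₀⁻¹), ?_, ?_⟩
          · simp only [mem_product, mem_filter, mem_univ, true_and, and_true]
            exact hmono.strictAnti_of_injective (hp.comp π₀.injective)
          · funext i
            simp

/-- Cauchy–Binet restricted to the tuples containing `0`. -/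
theorem sum_strictAnti_last_zero (hr : 0 < r)
    (M : Matrix (Fin r) (Fin m) R) (L : Matrix (Fin m) (Fin r) R) (a : Fin m) (ha : (a : ℕ) = 0) :
    ∑ σ ∈ (univ : Finset (Fin r → Fin m)).filter
        (fun σ : Fin r → Fin m => StrictAnti σ ∧ ∀ i : Fin r, (i : ℕ) = r - 1 → (σ i : ℕ) = 0),
      (M.submatrix id σ).det * (L.submatrix σ id).det =
      (M * L).det - (M * L - Matrix.of fun i j => M i a * L a j).det := by
  classical
  let M' : Matrix (Fin r) (Fin m) R := Matrix.of fun i b => if b = a then 0 else M i b
  have hM' : M' * L = M * L - Matrix.of fun i j => M i a * L a j := by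
    ext i j
    simp only [M', mul_apply, of_apply, Matrix.sub_apply]
    rw [eq_sub_iff_add_eq, show M i a * L a j = ∑ b, if b = a then M i b * L b j else 0 by simp,
      ← sum_add_distrib]
    refine sum_congr rfl fun b _ => ?_
    split_ifs <;> simp
  rw [← hM', det_mul_eq_sum_strictAnti, det_mul_eq_sum_strictAnti, ← sum_sub_distrib]
  symm
  rw [← Finset.sum_filter_add_sum_filter_not
    ((univ : Finset (Fin r → Fin m)).filter (fun σ => StrictAnti σ))
    (fun σ : Fin r → Fin m => ∀ i : Fin r, (i : ℕ) = r - 1 → (σ i : ℕ) = 0), filter_filter, filter_filter]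
  have hz : ∑ σ ∈ (univ : Finset (Fin r → Fin m)).filter
      (fun σ : Fin r → Fin m => StrictAnti σ ∧ ¬ ∀ i : Fin r, (i : ℕ) = r - 1 → (σ i : ℕ) = 0),
      ((M.submatrix id σ).det * (L.submatrix σ id).det -
        (M'.submatrix id σ).det * (L.submatrix σ id).det) = 0 := by
    refine sum_eq_zero fun σ hσ => ?_
    simp only [mem_filter, mem_univ, true_and] at hσ
    have : M'.submatrix id σ = M.submatrix id σ := by
      ext i j
      simp only [M', submatrix_apply, of_apply, id]
      rw [if_neg]
      intro hj
      apply hσ.2
      intro l hl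
      have hjl : j ≤ l := by
        rw [Fin.le_def]; omega
      have := hσ.1.antitone hjl
      rw [Fin.le_def, hj, ha] at this
      omega
    rw [this, sub_self]
  rw [hz, add_zero]
  refine sum_congr rfl fun σ hσ => ?_
  simp only [mem_filter, mem_univ, true_and] at hσ
  have : (M'.submatrix id σ).det = 0 := by
    refine det_eq_zero_of_column_eq_zero ⟨r - 1, by omega⟩ fun i => ?_
    simp only [M', submatrix_apply, of_apply]
    rw [if_pos]
    exact Fin.ext (by rw [ha]; exact hσ.2 _ rfl)
  rw [this]
  ring

end Groth.Agent.Verlinde.CauchyBinet
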