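import Groth.Agent.Verlinde.Exp

/-!
Auxiliary forms used for the Verlinde identities.
-/

namespace Groth.Agent.Verlinde.Schur

open Matrix Finset Groth.Agent.Verlinde.Basic Groth.Agent.Verlinde.Exp Complex

variable {r : ℕ}

theorem exp_eq_ep (r k : ℕ) (v : ℕ) :
    Complex.exp (2 * Real.pi * I * (v : ℂ) / ((r : ℂ) + k)) = ep (r + k) (v : ℤ) := by
  simp [ep]

theorem alt_swap (N : ℕ) (v e : Fin r → ℕ) :
    alt (fun j => ep N (v j : ℤ)) e = alt (fun j => ep N (e j : ℤ)) v := by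
  unfold alt
  rw [← det_transpose]
  congr 1
  ext i j
  simp only [transpose_apply, of_apply, ep_pow]
  rw [mul_comm]

theorem alt_swap_inv (N : ℕ) (v e : Fin r → ℕ) :
    alt (fun j => (ep N (v j : ℤ))⁻¹) e = alt (fun j => (ep N (e j : ℤ))⁻¹) v := by
  unfold alt
  rw [← det_transpose]
  congr 1
  ext i j
  simp only [transpose_apply, of_apply, inv_pow, ep_pow]
  rw [mul_comm]

theorem sum_rev_sub {k : ℕ} (μ : Fin r → ℕ) (hμ : ∀ i, μ i ≤ k) :
    (∑ i, μ i) + ∑ i, (k - μ (Fin.rev i)) = r * k := by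
  have h := Equiv.sum_comp Fin.revPerm (fun i => k - μ i)
  simp only [Fin.revPerm_apply] at h
  rw [h, ← sum_add_distrib, sum_congr rfl (fun i _ => Nat.add_sub_cancel' (hμ i))]
  simp

theorem prod_ep (N : ℕ) (v : Fin r → ℕ) :
    ∏ j, ep N (v j : ℤ) = ep N ((∑ j, v j : ℕ) : ℤ) := by
  simp only [ep]
  rw [← Complex.exp_sum, ← Finset.sum_div, ← Finset.mul_sum]
  push_cast
  rfl

theorem pt_eq {N : ℕ} (hr : 0 < r) (l : Fin r → ℕ) (i : Fin r) :
    pt N r l i = ep (r * N) (-((∑ j, l j : ℕ) : ℤ)) * ep N (l i : ℤ) := by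
  have : ep N (l i : ℤ) = ep (r * N) ((r : ℤ) * l i) := by
    rw [ep, ep]
    have : (r : ℂ) ≠ 0 := by exact_mod_cast hr.ne'
    push_cast
    congr 1
    field_simp
  rw [this, ep_mul, pt]
  congr 1
  push_cast
  ring

theorem pt_inv_eq {N : ℕ} (hr : 0 < r) (l : Fin r → ℕ) (i : Fin r) :
    (pt N r l i)⁻¹ = ep (r * N) ((∑ j, l j : ℕ) : ℤ) * (ep N (l i : ℤ))⁻¹ := by
  rw [pt_eq hr, mul_inv, ep_inv, neg_neg]

end Groth.Agent.Verlinde.Schur
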