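import Groth.Agent.Verlinde.CauchyBinet
import Mathlib.LinearAlgebra.Vandermonde
import Mathlib.LinearAlgebra.Lagrange
import Mathlib.LinearAlgebra.Matrix.SchurComplement
import Mathlib.Analysis.SpecialFunctions.Complex.Log

/-!
Alternants at roots of unity.
-/

namespace Groth.Agent.Verlinde.Basic

open Matrix Finset

/-- The alternant `det (z_j ^ e_i)`. -/
def alt {R : Type*} [CommRing R] {r : ℕ} (z : Fin r → R) (e : Fin r → ℕ) : R :=
  (Matrix.of fun i j => z j ^ e i).det

/-- The staircase. -/
def rho (r : ℕ) : Fin r → ℕ := fun i => r - 1 - (i : ℕ)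

section Algebra

variable {R : Type*} [CommRing R] {r N : ℕ}

theorem alt_add_const (z : Fin r → R) (e : Fin r → ℕ) (k : ℕ) :
    alt z (fun i => e i + k) = (∏ j, z j) ^ k * alt z e := by
  unfold alt
  rw [← prod_pow, ← det_mul_row]
  congr 1
  ext i j
  simp [pow_add, mul_comm]

theorem alt_smul (c : R) (z : Fin r → R) (e : Fin r → ℕ) :
    alt (fun j => c * z j) e = c ^ (∑ i, e i) * alt z e := by
  unfold alt
  rw [← prod_pow_eq_pow_sum, ← det_mul_column]
  congr 1
  ext i j
  simp [mul_pow]

theorem submatrix_det_left (z : Fin r → R) (σ : Fin r → Fin N) :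
    ((Matrix.of fun i (a : Fin N) => z i ^ (a : ℕ)).submatrix id σ).det =
      alt z (fun i => (σ i : ℕ)) := by
  rw [← det_transpose]
  rfl

theorem submatrix_det_right (w : Fin r → R) (σ : Fin r → Fin N) :
    ((Matrix.of fun (a : Fin N) j => w j ^ (a : ℕ)).submatrix σ id).det =
      alt w (fun i => (σ i : ℕ)) := rfl

theorem gram_eq (z w : Fin r → R) :
    (Matrix.of fun i (a : Fin N) => z i ^ (a : ℕ)) * (Matrix.of fun (a : Fin N) j => w j ^ (a : ℕ)) =
      Matrix.of fun i j => ∑ a ∈ range N, (z i * w j) ^ a := by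
  ext i j
  simp only [mul_apply, of_apply]
  rw [← Fin.sum_univ_eq_sum_range]
  exact sum_congr rfl fun a _ => (mul_pow _ _ _).symm

theorem sum_alt_mul_alt (z w : Fin r → R) :
    ∑ σ ∈ (univ : Finset (Fin r → Fin N)).filter (fun σ => StrictAnti σ),
        alt z (fun i => (σ i : ℕ)) * alt w (fun i => (σ i : ℕ)) =
      (Matrix.of fun i j => ∑ a ∈ range N, (z i * w j) ^ a).det := by
  rw [← gram_eq, CauchyBinet.det_mul_eq_sum_strictAnti]
  simp only [submatrix_det_left, submatrix_det_right]

theorem sum_alt_mul_alt_zero (hr : 0 < r) (hN : 0 < N) (z w : Fin r → R) :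
    ∑ σ ∈ (univ : Finset (Fin r → Fin N)).filter
        (fun σ : Fin r → Fin N => StrictAnti σ ∧ ∀ i : Fin r, (i : ℕ) = r - 1 → (σ i : ℕ) = 0),
        alt z (fun i => (σ i : ℕ)) * alt w (fun i => (σ i : ℕ)) =
      (Matrix.of fun i j => ∑ a ∈ range N, (z i * w j) ^ a).det -
        ((Matrix.of fun i j => ∑ a ∈ range N, (z i * w j) ^ a) -
          Matrix.of fun _ _ => (1 : R)).det := by
  have := CauchyBinet.sum_strictAnti_last_zero hr (Matrix.of fun i (a : Fin N) => z i ^ (a : ℕ))
    (Matrix.of fun (a : Fin N) j => w j ^ (a : ℕ)) ⟨0, hN⟩ rfl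
  rw [gram_eq] at this
  simp only [submatrix_det_left, submatrix_det_right, of_apply, pow_zero, mul_one] at this
  exact this

/-- Partitions in a box correspond to strictly decreasing tuples. -/
theorem sum_staircase {k m : ℕ} (hm : m + 1 = r + k) (hk : 0 < k) (F : (Fin r → ℕ) → R) :
    ∑ μ ∈ (univ : Finset (Fin r → Fin k)).filter (fun μ => Antitone μ),
        F (fun i => (μ i : ℕ) + rho r i) =
      ∑ σ ∈ (univ : Finset (Fin r → Fin m)).filter (fun σ => StrictAnti σ),
        F (fun i => (σ i : ℕ)) := by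
  have lower : ∀ σ : Fin r → Fin m, StrictAnti σ → ∀ d : ℕ, ∀ i : Fin r,
      (i : ℕ) + d + 1 = r → d ≤ (σ i : ℕ) := by
    intro σ hσ d
    induction d with
    | zero => intros; exact Nat.zero_le _
    | succ d ih =>
      intro i hi
      have h1 := ih ⟨(i : ℕ) + 1, by omega⟩ (by simp; omega)
      have h2 := hσ (show i < ⟨(i : ℕ) + 1, by omega⟩ from by rw [Fin.lt_def]; simp)
      rw [Fin.lt_def] at h2
      omega
  have upper : ∀ σ : Fin r → Fin m, StrictAnti σ → ∀ i : Fin r, (σ i : ℕ) + (i : ℕ) < m := by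
    intro σ hσ i
    obtain ⟨n, hn⟩ := i
    induction n with
    | zero => simpa using (σ ⟨0, hn⟩).2
    | succ n ih =>
      have h1 := ih (by omega)
      have h2 := hσ (show (⟨n, by omega⟩ : Fin r) < ⟨n + 1, hn⟩ from by rw [Fin.lt_def]; simp)
      rw [Fin.lt_def] at h2
      simp only at h1 ⊢
      omega
  refine sum_bij'
    (fun μ _ i => ⟨(μ i : ℕ) + rho r i, by have := (μ i).2; have := i.2; simp [rho]; omega⟩)
    (fun σ hσ i => ⟨(σ i : ℕ) - rho r i, by
      have := upper σ (mem_filter.mp hσ).2 i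
      have := lower σ (mem_filter.mp hσ).2 (rho r i) i (by have := i.2; simp [rho]; omega)
      have := i.2
      simp [rho] at *
      omega⟩) ?_ ?_ ?_ ?_ ?_
  · intro μ hμ
    simp only [mem_filter, mem_univ, true_and] at hμ ⊢
    intro a b hab
    have h1 := hμ hab.le
    rw [Fin.lt_def] at hab
    rw [Fin.le_def] at h1
    rw [Fin.lt_def]
    have := b.2
    simp [rho]
    omega
  · intro σ hσ
    simp only [mem_filter, mem_univ, true_and] at hσ ⊢
    intro a b hab
    rw [Fin.le_def]
    simp only [rho]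
    have ha := lower σ hσ (rho r a) a (by have := a.2; simp [rho]; omega)
    simp only [rho] at ha
    have hstep : ∀ d : ℕ, ∀ c : Fin r, (c : ℕ) = (a : ℕ) + d → (σ c : ℕ) + d ≤ (σ a : ℕ) := by
      intro d
      induction d with
      | zero =>
        intro c hc
        rw [show c = a from Fin.ext (by simpa using hc)]
        omega
      | succ d ih =>
        intro c hc
        have h1 := ih ⟨(a : ℕ) + d, by have := c.2; omega⟩ rfl
        have h2 := hσ (show (⟨(a : ℕ) + d, by have := c.2; omega⟩ : Fin r) < c from by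
          rw [Fin.lt_def]; simp; omega)
        rw [Fin.lt_def] at h2
        omega
    rw [Fin.le_def] at hab
    have := hstep ((b : ℕ) - a) b (by omega)
    have := lower σ hσ (rho r b) b (by have := b.2; simp [rho]; omega)
    simp only [rho] at this
    omega
  · intro μ _
    funext i
    exact Fin.ext (by simp)
  · intro σ hσ
    funext i
    have := lower σ (mem_filter.mp hσ).2 (rho r i) i (by have := i.2; simp [rho]; omega)
    exact Fin.ext (by simp; omega)
  · intro μ _
    rfl

end Algebra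

section Field

variable {K : Type*} [Field K] {r k : ℕ}

theorem alt_rho_eq (z : Fin r → K) :
    alt z (rho r) = ((Equiv.Perm.sign (Fin.revPerm : Equiv.Perm (Fin r)) : ℤ) : K) *
      ∏ i : Fin r, ∏ j ∈ Ioi i, (z j - z i) := by
  rw [← det_vandermonde, ← det_transpose (vandermonde z), ← det_permute]
  unfold alt
  congr 1
  ext i j
  have : rho r i = ((Fin.rev i : Fin r) : ℕ) := by
    rw [Fin.val_rev]
    simp only [rho]
    omega
  simp [this, vandermonde_apply]

theorem alt_rho_ne_zero {z : Fin r → K} (hz : Function.Injective z) : alt z (rho r) ≠ 0 := by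
  rw [alt_rho_eq, ← det_vandermonde]
  refine mul_ne_zero ?_ (det_vandermonde_ne_zero_iff.mpr hz)
  rcases Int.units_eq_one_or (Equiv.Perm.sign (Fin.revPerm : Equiv.Perm (Fin r))) with h | h <;>
    simp [h]

theorem alt_dual {N : ℕ} (hN : 0 < N) (z : Fin r → K) (hz : ∀ j, z j ^ N = 1)
    (e : Fin r → ℕ) (he : ∀ i, e i ≤ N - 1) :
    alt z (fun i => N - 1 - e (Fin.rev i)) =
      ((Equiv.Perm.sign (Fin.revPerm : Equiv.Perm (Fin r)) : ℤ) : K) *
        ((∏ j, (z j)⁻¹) * alt (fun j => (z j)⁻¹) e) := by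
  unfold alt
  rw [← det_mul_row, ← det_permute]
  congr 1
  ext i j
  simp only [submatrix_apply, of_apply, id, Fin.revPerm_apply]
  have hz0 : z j ≠ 0 := fun h => by simpa [h, hN.ne'] using hz j
  rw [inv_pow, ← mul_inv]
  refine eq_inv_of_mul_eq_one_left ?_
  rw [← pow_succ', ← pow_add]
  have := he (Fin.rev i)
  rw [show N - 1 - e (Fin.rev i) + (e (Fin.rev i) + 1) = N by omega, hz]

/-- The Schur value at the dual partition. -/
theorem schur_dual (hr : 1 ≤ r) (z : Fin r → K) (hinj : Function.Injective z)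
    (hz : ∀ j, z j ^ (r + k) = 1) (μ : Fin r → ℕ) (hμ : ∀ i, μ i ≤ k) :
    alt z (fun i => k - μ (Fin.rev i) + rho r i) / alt z (rho r) =
      (∏ j, z j) ^ k *
        (alt (fun j => (z j)⁻¹) (fun i => μ i + rho r i) / alt (fun j => (z j)⁻¹) (rho r)) := by
  have hN : 0 < r + k := by omega
  have e1 : (fun i => k - μ (Fin.rev i) + rho r i) =
      fun i => r + k - 1 - (fun i => μ i + rho r i) (Fin.rev i) := by
    funext i
    have := hμ (Fin.rev i)
    have := i.2
    simp only [rho, Fin.val_rev]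
    omega
  have e2 : (fun i => rho r i + k) = fun i => r + k - 1 - rho r (Fin.rev i) := by
    funext i
    have := i.2
    simp only [rho, Fin.val_rev]
    omega
  have h1 := alt_dual hN z hz (fun i => μ i + rho r i) (fun i => by
    have := hμ i; have := i.2; simp [rho]; omega)
  have h2 := alt_dual hN z hz (rho r) (fun i => by have := i.2; simp [rho]; omega)
  rw [← e1] at h1
  rw [← e2, alt_add_const] at h2
  have hΔ := alt_rho_ne_zero hinj
  have hinj' : Function.Injective fun j => (z j)⁻¹ := fun a b hab => hinj (inv_injective hab)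
  have hΔ' := alt_rho_ne_zero hinj'
  rw [h1]
  rw [mul_div_assoc', div_eq_div_iff hΔ hΔ']
  linear_combination -(alt (fun j => (z j)⁻¹) (fun i => μ i + rho r i)) * h2

theorem sum_pow_eq_of_pow_eq_one {x : K} {n : ℕ} (hx : x ≠ 1) (hn : x ^ n = 1) :
    ∑ a ∈ range n, x ^ a = 0 := by
  rw [geom_sum_eq hx, hn, sub_self, zero_div]

end Field

end Groth.Agent.Verlinde.Basic
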