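import Groth.Agent.Verlinde.Basic

/-!
Orthogonality of alternants in exponentials.
-/

namespace Groth.Agent.Verlinde.Exp

open Matrix Finset Groth.Agent.Verlinde.Basic Complex

theorem exp_int_div_eq_one_iff {M : ℕ} (hM : 0 < M) (n : ℤ) :
    Complex.exp (2 * Real.pi * I * (n : ℂ) / M) = 1 ↔ (M : ℤ) ∣ n := by
  rw [Complex.exp_eq_one_iff]
  have hMc : (M : ℂ) ≠ 0 := by exact_mod_cast hM.ne'
  have hπ : (2 * Real.pi * I : ℂ) ≠ 0 := by simp [Real.pi_ne_zero, I_ne_zero]
  constructor
  · rintro ⟨q, hq⟩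
    refine ⟨q, ?_⟩
    have : (n : ℂ) = ((M : ℤ) : ℂ) * q := by
      push_cast
      field_simp at hq
      linear_combination hq
    exact_mod_cast this
  · rintro ⟨q, rfl⟩
    refine ⟨q, ?_⟩
    push_cast
    field_simp

/-- The exponential point. -/
noncomputable def ep (N : ℕ) (v : ℤ) : ℂ := Complex.exp (2 * Real.pi * I * (v : ℂ) / N)

theorem ep_ne_zero (N : ℕ) (v : ℤ) : ep N v ≠ 0 := Complex.exp_ne_zero _

theorem ep_mul (N : ℕ) (a b : ℤ) : ep N a * ep N b = ep N (a + b) := by
  rw [ep, ep, ep, ← Complex.exp_add]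
  push_cast
  ring_nf

theorem ep_pow (N : ℕ) (a : ℤ) (n : ℕ) : ep N a ^ n = ep N (a * n) := by
  rw [ep, ep, ← Complex.exp_nat_mul]
  push_cast
  ring_nf

theorem ep_zero (N : ℕ) : ep N 0 = 1 := by simp [ep]

theorem ep_inv (N : ℕ) (a : ℤ) : (ep N a)⁻¹ = ep N (-a) := by
  rw [ep, ep, ← Complex.exp_neg]
  push_cast
  ring_nf

theorem ep_pow_self {N : ℕ} (hN : 0 < N) (a : ℤ) : ep N a ^ N = 1 := by
  rw [ep_pow, ep, exp_int_div_eq_one_iff hN]
  exact dvd_mul_left _ _

theorem ep_eq_one_iff {N : ℕ} (hN : 0 < N) (a : ℤ) : ep N a = 1 ↔ (N : ℤ) ∣ a :=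
  exp_int_div_eq_one_iff hN a

theorem ep_injective {N : ℕ} (hN : 0 < N) {r : ℕ} {v : Fin r → ℕ} (hv : Function.Injective v)
    (hvlt : ∀ i, v i < N) : Function.Injective fun j => ep N (v j) := by
  intro a b hab
  apply hv
  have h : ep N ((v a : ℤ) + -(v b : ℤ)) = 1 := by
    rw [← ep_mul, show ep N (v a : ℤ) = ep N (v b : ℤ) from hab, ep_mul, add_neg_cancel, ep_zero]
  rw [ep_eq_one_iff hN] at h
  have h' := Int.eq_zero_of_abs_lt_dvd h (by have := hvlt a; have := hvlt b; rw [abs_lt]; omega)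
  omega

/-- The Verlinde weight as a product of two alternants. -/
theorem alt_rho_mul_alt_rho_inv {N r : ℕ} (hN : 0 < N) (v : Fin r → ℕ) (z : Fin r → ℂ)
    (hz : ∀ j, z j = ep N (v j)) :
    alt z (rho r) * alt (fun j => (z j)⁻¹) (rho r) =
      ((∏ p ∈ (Finset.univ : Finset (Fin r × Fin r)).filter (fun p => p.1 < p.2),
        ((2 : ℝ) * Real.sin (Real.pi * ((v p.1 : ℝ) - (v p.2 : ℝ)) / N)) ^ 2 : ℝ) : ℂ) := by
  rw [alt_rho_eq, alt_rho_eq, mul_mul_mul_comm]
  rw [show ((Equiv.Perm.sign (Fin.revPerm : Equiv.Perm (Fin r)) : ℤ) : ℂ) *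
      ((Equiv.Perm.sign (Fin.revPerm : Equiv.Perm (Fin r)) : ℤ) : ℂ) = 1 by
    rcases Int.units_eq_one_or (Equiv.Perm.sign (Fin.revPerm : Equiv.Perm (Fin r))) with h | h <;>
      simp [h], one_mul, ← prod_mul_distrib, Complex.ofReal_prod, Finset.prod_filter,
    Fintype.prod_prod_type]
  refine prod_congr rfl fun i _ => ?_
  rw [← prod_mul_distrib, ← prod_filter, show Finset.univ.filter (fun j => i < j) = Ioi i by
    ext; simp]
  refine prod_congr rfl fun j _ => ?_
  set a : ℂ := (Real.pi : ℂ) * ((v i : ℂ) - v j) / N with ha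
  have e1 : z i * (z j)⁻¹ = Complex.exp (2 * (a * I)) := by
    rw [hz, hz, ep_inv, ep_mul, ep, ha]
    push_cast
    ring_nf
  have e2 : z j * (z i)⁻¹ = Complex.exp (-(2 * (a * I))) := by
    rw [hz, hz, ep_inv, ep_mul, ep, ha]
    push_cast
    ring_nf
  have hi : z i ≠ 0 := by rw [hz]; exact ep_ne_zero _ _
  have hj : z j ≠ 0 := by rw [hz]; exact ep_ne_zero _ _
  have hs : ((Real.pi * ((v i : ℝ) - v j) / N : ℝ) : ℂ) = a := by rw [ha]; push_cast; ring
  push_cast [hs]
  rw [Complex.two_sin, show (-a) * I = -(a * I) by ring]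
  have hx : Complex.exp (a * I) * Complex.exp (-(a * I)) = 1 := by
    rw [← Complex.exp_add, add_neg_cancel, Complex.exp_zero]
  have e1' : Complex.exp (2 * (a * I)) = Complex.exp (a * I) * Complex.exp (a * I) := by
    rw [← Complex.exp_add]; ring_nf
  have e2' : Complex.exp (-(2 * (a * I))) = Complex.exp (-(a * I)) * Complex.exp (-(a * I)) := by
    rw [← Complex.exp_add]; ring_nf
  calc (z j - z i) * ((z j)⁻¹ - (z i)⁻¹)
      = 2 - z i * (z j)⁻¹ - z j * (z i)⁻¹ := by field_simp; ring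
    _ = _ := by
        rw [e1, e2, e1', e2', mul_pow, I_sq]
        linear_combination -2 * hx

/-- Full orthogonality: the rows of the full sum. -/
theorem gram_scalar {N r : ℕ} (hN : 0 < N) {v : Fin r → ℕ} (hv : Function.Injective v)
    (hvlt : ∀ i, v i < N) :
    (Matrix.of fun i j : Fin r => ∑ a ∈ range N, (ep N (v i) * (ep N (v j))⁻¹) ^ a) =
      (N : ℂ) • (1 : Matrix (Fin r) (Fin r) ℂ) := by
  ext i j
  rcases eq_or_ne i j with rfl | hij
  · simp [mul_inv_cancel₀ (ep_ne_zero N (v i : ℤ))]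
  · rw [of_apply, sum_pow_eq_of_pow_eq_one ?_ (by rw [mul_pow, inv_pow, ep_pow_self hN, ep_pow_self hN]; simp)]
    · simp [hij]
    · rw [Ne, mul_inv_eq_one₀ (ep_ne_zero _ _)]
      exact fun h => hij (ep_injective hN hv hvlt h)

theorem det_scalar_sub_outer {r : ℕ} (N : ℂ) (hN : N ≠ 0) (a b : Fin r → ℂ) :
    (N • (1 : Matrix (Fin r) (Fin r) ℂ) - Matrix.of fun i j => a i * b j).det =
      N ^ r * (1 - (∑ i, b i * a i) / N) := by
  have : N • (1 : Matrix (Fin r) (Fin r) ℂ) - Matrix.of (fun i j => a i * b j) =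
      N • (1 + replicateCol Unit (fun i => -(a i) / N) * replicateRow Unit b) := by
    ext i j
    simp [mul_apply, replicateCol_apply, replicateRow_apply]
    field_simp
    ring
  rw [this, det_smul, det_one_add_replicateCol_mul_replicateRow, Fintype.card_fin, sum_div]
  simp [dotProduct, sub_eq_add_neg, neg_div, mul_div_assoc]

section Key

variable {N r : ℕ}

/-- The point attached to a tuple, normalised to product one. -/
noncomputable def pt (N r : ℕ) (l : Fin r → ℕ) (i : Fin r) : ℂ :=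
  ep (r * N) ((r : ℤ) * (l i : ℤ) - ∑ j, (l j : ℤ))

theorem pt_mul_inv (l l' : Fin r → ℕ) (i j : Fin r) :
    pt N r l i * (pt N r l' j)⁻¹ =
      ep (r * N) ((r : ℤ) * ((l i : ℤ) - l' j) + (∑ x, (l' x : ℤ) - ∑ x, (l x : ℤ))) := by
  rw [pt, pt, ep_inv, ep_mul]
  ring_nf

theorem prod_pt (hr : 0 < r) (l : Fin r → ℕ) : ∏ i, pt N r l i = 1 := by
  simp only [pt, ep]
  rw [← Complex.exp_sum, ← Finset.sum_div, ← Finset.mul_sum]
  push_cast
  rw [Finset.sum_sub_distrib, ← Finset.mul_sum]
  simp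

theorem pt_injective (hr : 0 < r) (hN : 0 < N) {l : Fin r → ℕ} (hl : Function.Injective l)
    (hlt : ∀ i, l i < N) : Function.Injective (pt N r l) := by
  intro a b hab
  have h : pt N r l a * (pt N r l b)⁻¹ = 1 := by
    rw [hab, mul_inv_cancel₀ (show pt N r l b ≠ 0 from ep_ne_zero _ _)]
  rw [pt_mul_inv, ep_eq_one_iff (Nat.mul_pos hr hN), sub_self, add_zero] at h
  push_cast at h
  have h2 := Int.dvd_of_mul_dvd_mul_left (by omega) h
  have h3 := Int.eq_zero_of_abs_lt_dvd h2 (by have := hlt a; have := hlt b; rw [abs_lt]; omega)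
  exact hl (by omega)

theorem sum_pow_rho_one (hr : 0 < r) (hN : 0 < N) (l l' : Fin r → ℕ) (δ : ℤ)
    (hδ : ∑ x, (l' x : ℤ) - ∑ x, (l x : ℤ) = r * δ) (i j : Fin r) :
    ∑ a ∈ range N, (pt N r l i * (pt N r l' j)⁻¹) ^ a =
      if (N : ℤ) ∣ (l i : ℤ) - l' j + δ then (N : ℂ) else 0 := by
  have hbase : pt N r l i * (pt N r l' j)⁻¹ = ep N ((l i : ℤ) - l' j + δ) := by
    rw [pt_mul_inv, hδ, ← mul_add, ep, ep]
    have : (r : ℂ) ≠ 0 := by exact_mod_cast hr.ne'
    push_cast
    congr 1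
    field_simp
  rw [hbase]
  split_ifs with h
  · rw [(ep_eq_one_iff hN _).mpr h]; simp
  · exact sum_pow_eq_of_pow_eq_one (by rwa [Ne, ep_eq_one_iff hN]) (ep_pow_self hN _)

/-- Translates of sets with the same sum. -/
theorem exists_two_unmatched (hN : 0 < N) {l l' : Fin r → ℕ}
    (hl : StrictAnti l) (hlt : ∀ i, l i < N) (hl' : StrictAnti l') (hlt' : ∀ i, l' i < N)
    (δ : ℤ) (hδ : ∑ x, (l' x : ℤ) - ∑ x, (l x : ℤ) = r * δ)
    (hne : ¬ ∃ a : ℤ, ∀ i, (l i : ℤ) - (l' i : ℤ) = a) :
    ∃ i i', i ≠ i' ∧ (∀ j, ¬ (N : ℤ) ∣ (l i : ℤ) - l' j + δ) ∧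
      (∀ j, ¬ (N : ℤ) ∣ (l i' : ℤ) - l' j + δ) := by
  classical
  have hNz : (0 : ℤ) < N := by exact_mod_cast hN
  let q : Fin r → ℤ := fun i => ((l i : ℤ) + δ) % N
  let p : Fin r → ℤ := fun i => (l' i : ℤ)
  have hqb : ∀ i, 0 ≤ q i ∧ q i < N := fun i =>
    ⟨Int.emod_nonneg _ hNz.ne', Int.emod_lt_of_pos _ hNz⟩
  have hpb : ∀ i, 0 ≤ p i ∧ p i < N := fun i => ⟨Int.natCast_nonneg _, Int.ofNat_lt.mpr (hlt' i)⟩
  have hdvd : ∀ i, (N : ℤ) ∣ (l i : ℤ) + δ - q i := fun i => Int.dvd_self_sub_emod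
  have hmatch : ∀ i j, (N : ℤ) ∣ (l i : ℤ) - l' j + δ ↔ q i = p j := by
    intro i j
    constructor
    · intro h
      have h2 : (N : ℤ) ∣ q i - p j := by
        have := Int.dvd_sub h (hdvd i)
        rwa [show (l i : ℤ) - l' j + δ - ((l i : ℤ) + δ - q i) = q i - p j by ring] at this
      have := Int.eq_zero_of_abs_lt_dvd h2 (by
        have := hqb i; have := hpb j; rw [abs_lt]; omega)
      omega
    · intro h
      have := hdvd i
      rwa [h, show (l i : ℤ) + δ - p j = (l i : ℤ) - l' j + δ by ring] at this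
  have hq : Function.Injective q := by
    intro a b hab
    have h2 := Int.dvd_sub (hdvd a) (hdvd b)
    rw [hab, show (l a : ℤ) + δ - q b - ((l b : ℤ) + δ - q b) = (l a : ℤ) - l b by ring] at h2
    have := Int.eq_zero_of_abs_lt_dvd h2 (by
      have := hlt a; have := hlt b; rw [abs_lt]; omega)
    exact hl.injective (by omega)
  have hp : Function.Injective p := fun a b hab => hl'.injective (by simpa [p] using hab)
  by_contra hc
  push Not at hc
  set A := univ.image q
  set B := univ.image p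
  have hAB : A.card = B.card := by
    rw [card_image_of_injective _ hq, card_image_of_injective _ hp]
  have hsum : (N : ℤ) ∣ ∑ x ∈ A, x - ∑ x ∈ B, x := by
    rw [sum_image hq.injOn, sum_image hp.injOn]
    have : (N : ℤ) ∣ ∑ i, ((l i : ℤ) + δ - q i) := Finset.dvd_sum fun i _ => hdvd i
    rw [sum_sub_distrib, sum_add_distrib, sum_const, card_univ, Fintype.card_fin,
      nsmul_eq_mul, ← hδ] at this
    have h2 : ∑ i, q i - ∑ i, p i =
        -(∑ i, (l i : ℤ) + (∑ x, (l' x : ℤ) - ∑ x, (l x : ℤ)) - ∑ i, q i) := by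
      simp only [p]; ring
    rw [h2]
    exact this.neg_right
  have hsub : (A \ B).card ≤ 1 := by
    rw [Finset.card_le_one]
    intro x hx y hy
    simp only [A, B, mem_sdiff, mem_image, mem_univ, true_and] at hx hy
    obtain ⟨⟨i, rfl⟩, hi⟩ := hx
    obtain ⟨⟨i', rfl⟩, hi'⟩ := hy
    by_contra hne2
    obtain ⟨j, hj⟩ := hc i i' (fun h => hne2 (by rw [h]))
      (fun j hj => hi ⟨j, ((hmatch i j).mp hj).symm⟩)
    exact hi' ⟨j, ((hmatch i' j).mp hj).symm⟩
  have heq : A = B := by
    rcases Nat.le_one_iff_eq_zero_or_eq_one.mp hsub with h0 | h1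
    · exact Finset.eq_of_subset_of_card_le
        (sdiff_eq_empty_iff_subset.mp (card_eq_zero.mp h0)) hAB.ge
    · exfalso
      obtain ⟨x, hx⟩ := card_eq_one.mp h1
      obtain ⟨y, hy⟩ := card_eq_one.mp ((Finset.card_sdiff_comm hAB).symm.trans h1)
      rw [← sum_sdiff_sub_sum_sdiff, hx, hy, sum_singleton, sum_singleton] at hsum
      have hxm : x ∈ A \ B := by simp [hx]
      have hym : y ∈ B \ A := by simp [hy]
      simp only [A, B, mem_sdiff, mem_image, mem_univ, true_and] at hxm hym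
      obtain ⟨⟨i, rfl⟩, hi⟩ := hxm
      obtain ⟨⟨j, rfl⟩, -⟩ := hym
      have := Int.eq_zero_of_abs_lt_dvd hsum (by
        have := hqb i; have := hpb j; rw [abs_lt]; omega)
      exact hi ⟨j, by omega⟩
  -- now `q` is `p` up to order, so there is no wrapping
  have hw : ∀ i, q i = (l i : ℤ) + δ := by
    have hs : ∑ i, (q i - ((l i : ℤ) + δ)) = 0 := by
      have h0 : ∑ x ∈ A, x = ∑ x ∈ B, x := by rw [heq]
      rw [sum_image hq.injOn, sum_image hp.injOn] at h0
      rw [sum_sub_distrib, sum_add_distrib, sum_const, card_univ, Fintype.card_fin, nsmul_eq_mul,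
        ← hδ, h0]
      simp only [p]; ring
    rcases le_or_gt 0 δ with hd | hd
    · have hle : ∀ i ∈ univ, q i - ((l i : ℤ) + δ) ≤ 0 := fun i _ => by
        rcases lt_or_ge ((l i : ℤ) + δ) N with h | h
        · have := Int.emod_eq_of_lt (show 0 ≤ (l i : ℤ) + δ by omega) h
          simp only [q]; omega
        · have := (hqb i).2
          omega
      intro i
      have := (sum_eq_zero_iff_of_nonpos hle).mp hs i (mem_univ i)
      omega
    · have hge : ∀ i ∈ univ, 0 ≤ q i - ((l i : ℤ) + δ) := fun i _ => by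
        rcases le_or_gt 0 ((l i : ℤ) + δ) with h | h
        · have := hlt i
          have := Int.emod_eq_of_lt h (show (l i : ℤ) + δ < N by omega)
          simp only [q]; omega
        · have := (hqb i).1
          omega
      intro i
      have := (sum_eq_zero_iff_of_nonneg hge).mp hs i (mem_univ i)
      omega
  apply hne
  refine ⟨-δ, fun i => ?_⟩
  have hqanti : StrictAnti q := fun a b hab => by
    have := hl hab
    rw [hw, hw]; omega
  have hpanti : StrictAnti p := fun a b hab => by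
    have := hl' hab
    simp only [p]; omega
  have hr : Set.range q = Set.range p := by
    have := congrArg (fun s : Finset ℤ => (s : Set ℤ)) heq
    simpa [A, B] using this
  have : q = p := (hqanti.range_inj hpanti).mp hr
  have h2 := congrFun this i
  rw [hw] at h2
  simp only [p] at h2
  omega

/-- The key orthogonality relation. -/
theorem key (hr : 0 < r) (hN : 0 < N) {l l' : Fin r → ℕ}
    (hl : StrictAnti l) (hlt : ∀ i, l i < N) (hl' : StrictAnti l') (hlt' : ∀ i, l' i < N)
    (hne : ¬ ∃ a : ℤ, ∀ i, (l i : ℤ) - (l' i : ℤ) = a) :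
    ∑ σ ∈ (univ : Finset (Fin r → Fin N)).filter
        (fun σ : Fin r → Fin N => StrictAnti σ ∧ ∀ i : Fin r, (i : ℕ) = r - 1 → (σ i : ℕ) = 0),
        alt (pt N r l) (fun i => (σ i : ℕ)) *
          alt (fun j => (pt N r l' j)⁻¹) (fun i => (σ i : ℕ)) = 0 := by
  classical
  rw [sum_alt_mul_alt_zero hr hN]
  set G : Matrix (Fin r) (Fin r) ℂ :=
    Matrix.of fun i j => ∑ a ∈ range N, (pt N r l i * (pt N r l' j)⁻¹) ^ a with hG
  by_cases hdiv : (r : ℤ) ∣ ∑ x, (l' x : ℤ) - ∑ x, (l x : ℤ)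
  · obtain ⟨δ, hδ⟩ := hdiv
    obtain ⟨i, i', hii', hi, hi'⟩ := exists_two_unmatched hN hl hlt hl' hlt' δ hδ hne
    have z : ∀ i, (∀ j, ¬ (N : ℤ) ∣ (l i : ℤ) - l' j + δ) → ∀ j, G i j = 0 := fun i h j => by
      rw [hG, of_apply, sum_pow_rho_one hr hN l l' δ hδ, if_neg (h j)]
    rw [det_zero_of_row_eq hii' (by funext j; rw [z i hi, z i' hi']),
      det_zero_of_row_eq hii' (by funext j; simp [z i hi j, z i' hi' j]), sub_zero]
  · have hrN : 0 < r * N := Nat.mul_pos hr hN
    set u := pt N r l with hu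
    set p := pt N r l' with hp
    have hp0 : ∀ j, p j ≠ 0 := fun j => ep_ne_zero _ _
    have hne1 : ∀ i j, u i * (p j)⁻¹ ≠ 1 := by
      intro i j h
      rw [hu, hp, pt_mul_inv, ep_eq_one_iff hrN] at h
      push_cast at h
      apply hdiv
      have := Int.dvd_sub ((dvd_mul_right _ _).trans h) (dvd_mul_right (r : ℤ) ((l i : ℤ) - l' j))
      rwa [add_sub_cancel_left] at this
    have hupne : ∀ i j, u i ≠ p j := fun i j h => hne1 i j (by rw [h, mul_inv_cancel₀ (hp0 j)])
    have hpinj : Set.InjOn p (univ : Finset (Fin r)) :=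
      (pt_injective hr hN hl'.injective hlt').injOn
    set c : ℂ := ep r (∑ x, (l' x : ℤ) - ∑ x, (l x : ℤ)) - 1 with hc
    have hc0 : c ≠ 0 := by
      rw [hc, sub_ne_zero, Ne, ep_eq_one_iff hr]
      exact hdiv
    have hGij : ∀ i j, G i j = c * p j / (u i - p j) := by
      intro i j
      rw [hG, of_apply, geom_sum_eq (hne1 i j)]
      have : (u i * (p j)⁻¹) ^ N = c + 1 := by
        rw [hc, sub_add_cancel, hu, hp, pt_mul_inv, ep, ← Complex.exp_nat_mul, ep,
          Complex.exp_eq_exp_iff_exists_int]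
        refine ⟨(l i : ℤ) - l' j, ?_⟩
        have h1 : (N : ℂ) ≠ 0 := by exact_mod_cast hN.ne'
        have h2 : (r : ℂ) ≠ 0 := by exact_mod_cast hr.ne'
        push_cast
        field_simp
        ring
      rw [this, add_sub_cancel_right]
      have := sub_ne_zero.mpr (hupne i j)
      have := hp0 j
      field_simp
    -- partial fractions
    set P := Lagrange.nodal univ p with hP
    set Q := Lagrange.nodal univ u with hQ
    set x : Fin r → ℂ := fun j => Lagrange.nodalWeight univ p j * (P - Q).eval (p j) with hx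
    have hdeg : (P - Q).degree < (univ : Finset (Fin r)).card := by
      have hd : P.degree = Q.degree := by
        rw [hP, hQ, Lagrange.degree_nodal, Lagrange.degree_nodal]
      have h := Polynomial.degree_sub_lt hd (Lagrange.nodal_monic.ne_zero)
        (by rw [hP, hQ, Lagrange.nodal_monic.leadingCoeff, Lagrange.nodal_monic.leadingCoeff])
      rwa [hP, Lagrange.degree_nodal] at h
    have hinterp : ∀ t : ℂ, (∀ j, t ≠ p j) →
        (P - Q).eval t = P.eval t * ∑ j, (t - p j)⁻¹ * x j := by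
      intro t ht
      conv_lhs => rw [Lagrange.eq_interpolate hpinj hdeg]
      rw [Lagrange.eval_interpolate_not_at_node _ (fun j _ => ht j)]
      congr 1
      refine sum_congr rfl fun j _ => ?_
      simp only [hx]
      ring
    have hPne : ∀ t : ℂ, (∀ j, t ≠ p j) → P.eval t ≠ 0 := fun t ht => by
      rw [hP, Lagrange.eval_nodal, prod_ne_zero_iff]
      exact fun j _ => sub_ne_zero.mpr (ht j)
    have h1 : ∀ i, ∑ j, (u i - p j)⁻¹ * x j = 1 := fun i => by
      have h := hinterp (u i) (hupne i)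
      rw [Polynomial.eval_sub, hQ, Lagrange.eval_nodal_at_node (mem_univ i), sub_zero] at h
      exact (mul_eq_left₀ (hPne _ (hupne i))).mp h.symm
    have h0 : ∑ j, x j / p j = 0 := by
      have hz : ∀ j, (0 : ℂ) ≠ p j := fun j => (hp0 j).symm
      have h := hinterp 0 hz
      rw [Polynomial.eval_sub, hP, hQ, Lagrange.eval_nodal, Lagrange.eval_nodal] at h
      simp only [zero_sub, prod_neg, hu, hp, prod_pt hr, sub_self] at h
      have h3 := (mul_eq_zero.mp h.symm).resolve_left (by simp)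
      have e : ∑ j, x j / p j = -∑ j, (-(pt N r l' j))⁻¹ * x j := by
        rw [← sum_neg_distrib]
        refine sum_congr rfl fun j _ => ?_
        rw [inv_neg, div_eq_mul_inv, hp]
        ring
      rw [e, h3, neg_zero]
    set y : Fin r → ℂ := fun j => x j / (c * p j) with hy
    have hy0 : ∑ j, y j = 0 := by
      have : ∑ j, y j = (∑ j, x j / p j) / c := by
        rw [sum_div]
        exact sum_congr rfl fun j _ => by rw [hy]; field_simp
      rw [this, h0, zero_div]
    have hGy : ∀ i, ∑ j, G i j * y j = 1 := fun i => by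
      rw [← h1 i]
      refine sum_congr rfl fun j _ => ?_
      rw [hGij, hy]
      have := sub_ne_zero.mpr (hupne i j)
      have := hp0 j
      field_simp
    have hfac : G - Matrix.of (fun _ _ => (1 : ℂ)) =
        G * (1 + replicateCol Unit (fun j => -(y j)) * replicateRow Unit (fun _ : Fin r => (1 : ℂ))) := by
      rw [Matrix.mul_add, Matrix.mul_one, ← Matrix.mul_assoc]
      ext i j
      have hij : (G * replicateCol Unit fun j => -(y j)) i () = -1 := by
        simp [mul_apply, replicateCol_apply, sum_neg_distrib, hGy]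
      rw [Matrix.sub_apply, Matrix.add_apply, Matrix.mul_apply, Fintype.sum_unique,
        show (default : Unit) = () from rfl, hij]
      simp [replicateRow_apply, sub_eq_add_neg]
    rw [hfac, det_mul, det_one_add_replicateCol_mul_replicateRow]
    simp [dotProduct, sum_neg_distrib, hy0]

end Key

end Groth.Agent.Verlinde.Exp
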